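import Groth.Agent.CSALib.Separable
import Mathlib.RingTheory.LittleWedderburn
import Mathlib.FieldTheory.Finite.Extension
import Mathlib.FieldTheory.PrimitiveElement
import Mathlib.FieldTheory.IsAlgClosed.AlgebraicClosure
import Mathlib.RingTheory.Polynomial.UniqueFactorization
import Mathlib.FieldTheory.Perfect

/-!
Regular elements of central simple algebras: an element whose minimal polynomial is separable of
degree the degree of the algebra.
-/

set_option autoImplicit false

universe u v

open Polynomial

namespace Groth.Agent.AzEtale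

variable {k : Type u} [Field k]

theorem eq_of_irreducible_dvd {f g : k[X]} (hf : f.Monic) (hg : g.Monic) (hfi : Irreducible f)
    (hgi : Irreducible g) (h : f ∣ g) : f = g :=
  eq_of_monic_of_associated hf hg (hfi.associated_of_dvd hgi h)

theorem isCoprime_of_ne {f g : k[X]} (hf : f.Monic) (hg : g.Monic) (hfi : Irreducible f)
    (hgi : Irreducible g) (h : f ≠ g) : IsCoprime f g :=
  hfi.coprime_iff_not_dvd.2 fun hd => h (eq_of_irreducible_dvd hf hg hfi hgi hd)

/-- a separable polynomial is a product of distinct monic irreducibles -/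
theorem exists_factors {Q : k[X]} (hQm : Q.Monic) (hQ : Q.Separable) :
    ∃ W : Finset k[X], (∀ g ∈ W, g.Monic ∧ Irreducible g ∧ g.Separable) ∧ Q = ∏ g ∈ W, g := by
  classical
  have hnd := (UniqueFactorizationMonoid.squarefree_iff_nodup_normalizedFactors hQm.ne_zero).1 hQ.squarefree
  refine ⟨(UniqueFactorizationMonoid.normalizedFactors Q).toFinset, fun g hg => ?_, ?_⟩
  · rw [Multiset.mem_toFinset] at hg
    have hi := UniqueFactorizationMonoid.irreducible_of_normalized_factor g hg
    refine ⟨?_, hi, hQ.of_dvd (UniqueFactorizationMonoid.dvd_of_mem_normalizedFactors hg)⟩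
    have h1 := UniqueFactorizationMonoid.normalize_normalized_factor g hg
    rw [← h1]
    exact monic_normalize hi.ne_zero
  · rw [Finset.prod_eq_multiset_prod, Multiset.map_id', Multiset.toFinset_val, hnd.dedup]
    have hp : (UniqueFactorizationMonoid.normalizedFactors Q).prod.Monic := by
      refine monic_multiset_prod_of_monic _ id (fun g hg => ?_) |> fun h => by rwa [Multiset.map_id] at h
      have h1 := UniqueFactorizationMonoid.normalize_normalized_factor g hg
      rw [id, ← h1]
      exact monic_normalize (UniqueFactorizationMonoid.irreducible_of_normalized_factor g hg).ne_zero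
    exact eq_of_monic_of_associated hQm hp (UniqueFactorizationMonoid.prod_normalizedFactors hQm.ne_zero).symm

/-- the algebra generated by a root of a separable polynomial consists of separable elements -/
theorem isSeparable_adjoin {B : Type v} [Ring B] [Algebra k B] (x : B) {Q : k[X]} (hQm : Q.Monic)
    (hQ : Q.Separable) (hx : aeval x Q = 0) : Algebra.IsSeparable k (Algebra.adjoin k ({x} : Set B)) := by
  classical
  refine ⟨fun y => ?_⟩
  obtain ⟨R, hR⟩ := (Algebra.adjoin_singleton_eq_range_aeval k x).le y.2
  change aeval x R = y.1 at hR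
  obtain ⟨W, hW, hQW⟩ := exists_factors hQm hQ
  let s : k[X] → k[X] := fun g => minpoly k (AdjoinRoot.mk g R)
  have hs : ∀ g ∈ W, (s g).Monic ∧ Irreducible (s g) ∧ (s g).Separable := fun g hg => by
    obtain ⟨hgm, hgi, hgs⟩ := hW g hg
    have : Fact (Irreducible g) := ⟨hgi⟩
    have := CSALib.isSeparable_adjoinRoot g hgm hgs
    have hsep : IsSeparable k (AdjoinRoot.mk g R) := Algebra.IsSeparable.isSeparable k _
    exact ⟨minpoly.monic hsep.isIntegral, minpoly.irreducible hsep.isIntegral, hsep⟩
  let P := ∏ f ∈ W.image s, f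
  have hP : P.Separable := by
    refine separable_prod' (fun a ha b hb hab => ?_) fun a ha => ?_
    · obtain ⟨ga, hga, rfl⟩ := Finset.mem_image.1 ha
      obtain ⟨gb, hgb, rfl⟩ := Finset.mem_image.1 hb
      exact isCoprime_of_ne (hs _ hga).1 (hs _ hgb).1 (hs _ hga).2.1 (hs _ hgb).2.1 hab
    · obtain ⟨ga, hga, rfl⟩ := Finset.mem_image.1 ha
      exact (hs _ hga).2.2
  have hdvd : Q ∣ P.comp R := by
    rw [hQW]
    refine Finset.prod_dvd_of_coprime (fun a ha b hb hab =>
      isCoprime_of_ne (hW a ha).1 (hW b hb).1 (hW a ha).2.1 (hW b hb).2.1 hab) fun g hg => ?_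
    rw [← AdjoinRoot.mk_eq_zero, ← AdjoinRoot.aeval_eq, aeval_comp, AdjoinRoot.aeval_eq]
    obtain ⟨c, hc⟩ : s g ∣ P := Finset.dvd_prod_of_mem _ (Finset.mem_image_of_mem s hg)
    rw [hc, map_mul, minpoly.aeval, zero_mul]
  have hy0 : aeval y P = 0 := by
    apply Subtype.ext
    change (Algebra.adjoin k ({x} : Set B)).val (aeval y P) = 0
    rw [← aeval_algHom_apply]
    change aeval (y.1) P = 0
    rw [← hR, ← aeval_comp]
    obtain ⟨c, hc⟩ := hdvd
    rw [hc, map_mul, hx, zero_mul]
  exact hP.of_dvd (minpoly.dvd k y hy0)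

/-- the dimension of the algebra generated by an element -/
theorem finrank_adjoin {B : Type v} [Ring B] [Algebra k B] [FiniteDimensional k B] (x : B) :
    Module.finrank k (Algebra.adjoin k ({x} : Set B)) = (minpoly k x).natDegree := by
  classical
  rcases subsingleton_or_nontrivial B with hB | hB
  · rw [minpoly.subsingleton, natDegree_one, ← Subalgebra.finrank_toSubmodule]
    exact Module.finrank_zero_of_subsingleton
  have hint : IsIntegral k x := IsIntegral.of_finite k x
  have hspan : Submodule.span k (Set.range fun i : Fin (minpoly k x).natDegree => x ^ (i : ℕ)) =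
      (Algebra.adjoin k ({x} : Set B)).toSubmodule := by
    refine le_antisymm (Submodule.span_le.2 ?_) ?_
    · rintro _ ⟨i, rfl⟩
      exact pow_mem (Algebra.self_mem_adjoin_singleton k x) _
    · intro z hz
      rw [Subalgebra.mem_toSubmodule, Algebra.adjoin_singleton_eq_range_aeval] at hz
      obtain ⟨p, rfl⟩ := hz
      change aeval x p ∈ _
      rw [← modByMonic_add_div p (minpoly k x), map_add, map_mul, minpoly.aeval, zero_mul, add_zero]
      have hlt : (p %ₘ minpoly k x).natDegree < (minpoly k x).natDegree :=
        natDegree_modByMonic_lt p (minpoly.monic hint) fun h => minpoly.ne_one k x h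
      rw [aeval_eq_sum_range' hlt, ← Fin.sum_univ_eq_sum_range]
      exact Submodule.sum_mem _ fun i _ => Submodule.smul_mem _ _ (Submodule.subset_span ⟨i, rfl⟩)
  rw [← Subalgebra.finrank_toSubmodule, ← hspan, finrank_span_eq_card (linearIndependent_pow x),
    Fintype.card_fin]

theorem exists_regular_of_finite [Finite k] (n : ℕ) (hn : 0 < n) :
    ∃ x : Matrix (Fin n) (Fin n) k, (minpoly k x).Separable ∧ (minpoly k x).natDegree = n := by
  classical
  obtain ⟨p, hp⟩ := CharP.exists k
  have : Fact p.Prime := ⟨CharP.char_is_prime k p⟩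
  let := ZMod.algebra k p
  have : NeZero n := ⟨hn.ne'⟩
  let K := FiniteField.Extension k p n
  have hK : Module.finrank k K = n := FiniteField.finrank_extension k p n
  have : Algebra.IsSeparable k K := Algebra.IsAlgebraic.isSeparable_of_perfectField
  obtain ⟨θ, hθ⟩ := Field.exists_primitive_element k K
  have hdeg := (Field.primitive_element_iff_minpoly_natDegree_eq k θ).1 hθ
  let b : Module.Basis (Fin n) k K := Module.finBasisOfFinrankEq k K hK
  refine ⟨Algebra.leftMulMatrix b θ, ?_, ?_⟩
  · rw [minpoly.algHom_eq _ (Algebra.leftMulMatrix_injective b)]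
    exact Algebra.IsSeparable.isSeparable k θ
  · rw [minpoly.algHom_eq _ (Algebra.leftMulMatrix_injective b), hdeg, hK]

theorem exists_avoiding [Infinite k] (Δ : Set k) (hΔ : Δ.Finite) :
    ∀ m, ∃ c : Fin m → k, ∀ i j, i ≠ j → c i - c j ∉ Δ := by
  intro m
  induction m with
  | zero => exact ⟨Fin.elim0, fun i => i.elim0⟩
  | succ m ih =>
    obtain ⟨c, hc⟩ := ih
    have hbad : (⋃ j, ((fun d => c j + d) '' Δ ∪ (fun d => c j - d) '' Δ)).Finite :=
      Set.finite_iUnion fun j => (hΔ.image _).union (hΔ.image _)
    obtain ⟨a, ha⟩ := hbad.exists_notMem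
    refine ⟨Fin.cons a c, ?_⟩
    intro i j hij
    induction i using Fin.cases with
    | zero =>
      induction j using Fin.cases with
      | zero => exact absurd rfl hij
      | succ j =>
        simp only [Fin.cons_zero, Fin.cons_succ]
        exact fun h => ha (Set.mem_iUnion.2 ⟨j, Or.inl ⟨_, h, by ring⟩⟩)
    | succ i =>
      induction j using Fin.cases with
      | zero =>
        simp only [Fin.cons_zero, Fin.cons_succ]
        exact fun h => ha (Set.mem_iUnion.2 ⟨i, Or.inr ⟨_, h, by ring⟩⟩)
      | succ j =>
        simp only [Fin.cons_succ]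
        exact hc i j fun h => hij (congrArg Fin.succ h)

theorem exists_regular_matrix [Infinite k] {D : Type v} [DivisionRing D] [Algebra k D]
    [FiniteDimensional k D] {L : Type v} [Field L] [Algebra k L] [FiniteDimensional k L] (ι : L →ₐ[k] D)
    (θ : L) (hθ : IsSeparable k θ) (m : ℕ) :
    ∃ x : Matrix (Fin m) (Fin m) D, (minpoly k x).Separable ∧
      (minpoly k x).natDegree = m * (minpoly k θ).natDegree := by
  classical
  let P := minpoly k θ
  have hint : IsIntegral k θ := IsIntegral.of_finite k θ
  let Z : Finset (AlgebraicClosure k) := (P.aroots (AlgebraicClosure k)).toFinset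
  let Δ : Set k := algebraMap k (AlgebraicClosure k) ⁻¹' ↑((Z ×ˢ Z).image fun q => q.1 - q.2)
  obtain ⟨c, hc⟩ := exists_avoiding Δ
    ((Finset.finite_toSet _).preimage (algebraMap k (AlgebraicClosure k)).injective.injOn) m
  let q : Fin m → k[X] := fun i => minpoly k (θ + algebraMap k L (c i))
  have hq : ∀ i, q i = P.comp (X - C (c i)) := fun i => minpoly.add_algebraMap θ (c i)
  have hqm : ∀ i, (q i).Monic := fun i => minpoly.monic (IsIntegral.of_finite k _)
  have hqi : ∀ i, Irreducible (q i) := fun i => minpoly.irreducible (IsIntegral.of_finite k _)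
  have hqs : ∀ i, (q i).Separable := fun i => by
    rw [hq, separable_def, derivative_comp, derivative_sub, derivative_X, derivative_C, sub_zero, one_mul]
    exact (separable_def P).1 hθ |>.map (aeval (X - C (c i))).toRingHom |> fun h => by
      simpa [← comp_eq_aeval, aeval_def, eval₂_eq_eval_map, comp] using h
  have hne : ∀ i j, i ≠ j → q i ≠ q j := by
    intro i j hij h
    obtain ⟨α, hα⟩ := IsAlgClosed.exists_aeval_eq_zero (AlgebraicClosure k) P (minpoly.degree_pos hint).ne'
    have h1 : aeval (α + algebraMap k _ (c i)) (q i) = 0 := by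
      rw [hq, aeval_comp]; simpa using hα
    rw [h, hq, aeval_comp, map_sub, aeval_X, aeval_C] at h1
    refine hc i j hij ?_
    simp only [Δ, Set.mem_preimage, Finset.coe_image, Set.mem_image, SetLike.mem_coe, map_sub]
    refine ⟨(α + algebraMap k _ (c i) - algebraMap k _ (c j), α), ?_, by ring⟩
    simp only [Z, Finset.mem_product, Multiset.mem_toFinset, mem_aroots]
    exact ⟨⟨minpoly.ne_zero hint, h1⟩, minpoly.ne_zero hint, hα⟩
  let v : Fin m → D := fun i => ι (θ + algebraMap k L (c i))
  let x : Matrix (Fin m) (Fin m) D := Matrix.diagonalAlgHom k v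
  have hx : minpoly k x = ∏ i, q i := by
    rw [minpoly.algHom_eq _ Matrix.diagonal_injective]
    symm
    refine eq_of_monic_of_associated (monic_prod_of_monic _ _ fun i _ => hqm i)
      (minpoly.monic (IsIntegral.of_finite k v)) (associated_of_dvd_dvd ?_ (minpoly.dvd k v ?_))
    · refine Fintype.prod_dvd_of_coprime (fun i j hij => isCoprime_of_ne (hqm i) (hqm j) (hqi i) (hqi j) (hne i j hij)) fun i => ?_
      simp only [q]
      rw [← minpoly.algHom_eq ι ι.toRingHom.injective]
      refine minpoly.dvd k _ ?_
      change aeval (Pi.evalAlgHom k (fun _ : Fin m => D) i v) (minpoly k v) = 0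
      rw [aeval_algHom_apply, minpoly.aeval, map_zero]
    · funext i
      change Pi.evalAlgHom k (fun _ : Fin m => D) i (aeval v (∏ j, q j)) = 0
      rw [← aeval_algHom_apply]
      obtain ⟨w, hw⟩ := Finset.dvd_prod_of_mem q (Finset.mem_univ i)
      rw [hw, map_mul]
      change aeval (ι (θ + algebraMap k L (c i))) (q i) * _ = 0
      rw [aeval_algHom_apply, minpoly.aeval, map_zero, zero_mul]
  refine ⟨x, ?_, ?_⟩
  · rw [hx]
    exact separable_prod' (fun i _ j _ hij => isCoprime_of_ne (hqm i) (hqm j) (hqi i) (hqi j) (hne i j hij))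
      fun i _ => hqs i
  · rw [hx, natDegree_prod_of_monic _ _ fun i _ => hqm i]
    simp [hq, natDegree_comp, P]

/-- every central simple algebra of dimension `r²` has an element with separable minimal
polynomial of degree `r` -/
theorem exists_regular (A : Type v) [Ring A] [Algebra k A] [Algebra.IsCentral k A] [IsSimpleRing A]
    [FiniteDimensional k A] (r : ℕ) (hA : Module.finrank k A = r ^ 2) :
    ∃ x : A, (minpoly k x).Separable ∧ (minpoly k x).natDegree = r := by
  classical
  obtain ⟨d, hd, -, m, D, _, _, hm, hD, hdim, ⟨e⟩⟩ :=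
    Brauer.exists_index (k := k) (T := A) ⟨inferInstance, inferInstance, inferInstance⟩
  have := hD.central; have := hD.finite
  have hr : r = m * d := by
    have h := e.toLinearEquiv.finrank_eq
    rw [hA, Module.finrank_matrix, Fintype.card_fin, hdim] at h
    exact Nat.pow_left_injective two_ne_zero (show r ^ 2 = (m * d) ^ 2 by rw [h]; ring)
  suffices ∃ x : Matrix (Fin m) (Fin m) D, (minpoly k x).Separable ∧ (minpoly k x).natDegree = r by
    obtain ⟨x, hx⟩ := this
    exact ⟨e.symm x, by rwa [minpoly.algEquiv_eq e.symm x]⟩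
  cases finite_or_infinite k with
  | inl hfin =>
    have : Finite D := Module.finite_of_finite k
    let := littleWedderburn D
    have hbot : (⊥ : Subalgebra k D) = ⊤ := by
      rw [eq_top_iff]
      intro z _
      exact Algebra.IsCentral.out (Subalgebra.mem_center_iff.2 fun w => mul_comm w z)
    let eD : k ≃ₐ[k] D := ((Subalgebra.equivOfEq _ _ hbot.symm).trans (Algebra.botEquiv k D)).symm.trans Subalgebra.topEquiv |>.symm |>.symm
    have hd1 : d = 1 := by
      have h := eD.toLinearEquiv.finrank_eq
      rw [Module.finrank_self, hdim] at h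
      exact Nat.eq_one_of_mul_eq_one_left (show d * d = 1 by rw [← sq, ← h])
    obtain ⟨x, hx1, hx2⟩ := exists_regular_of_finite (k := k) m hm
    exact ⟨(eD.mapMatrix (m := Fin m)) x, by rw [minpoly.algEquiv_eq]; exact ⟨hx1, by rw [hx2, hr, hd1, mul_one]⟩⟩
  | inr hinf =>
    obtain ⟨L, hcomm, hc, hsep⟩ := CSALib.exists_separable_maximal (k := k) D
    have hdL := CSALib.finrank_eq_sq L hcomm hc
    rw [hdim] at hdL
    have hLd : Module.finrank k L = d := (Nat.pow_left_injective two_ne_zero hdL).symm
    have := CSALib.isSimpleRing_of_comm L hcomm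
    let : CommRing L :=
      { (inferInstance : Ring L) with mul_comm := fun a b => Subtype.ext (hcomm _ a.2 _ b.2) }
    let : Field L := fieldOfFiniteDimensional k L
    obtain ⟨θ, hθ⟩ := Field.exists_primitive_element k L
    have hdeg := (Field.primitive_element_iff_minpoly_natDegree_eq k θ).1 hθ
    obtain ⟨x, hx1, hx2⟩ := exists_regular_matrix (k := k) L.val θ (Algebra.IsSeparable.isSeparable k θ) m
    exact ⟨x, hx1, by rw [hx2, hdeg, hLd, hr]⟩

end Groth.Agent.AzEtale
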