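import Groth.Agent.AzEtale.Field
import Mathlib.RingTheory.Artinian.Module
import Mathlib.Algebra.Module.Torsion.Basic
import Mathlib.LinearAlgebra.FreeModule.Finite.Matrix

/-!
A central simple algebra of dimension `r²` is free of rank `r` over a reduced commutative algebra of
dimension `r` acting faithfully by right multiplications.
-/

set_option autoImplicit false

universe u v w

open TensorProduct

namespace Groth.Agent.AzEtale

variable {k : Type u} [Field k] {B : Type v} [Ring B] [Algebra k B] [Algebra.IsCentral k B]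
  [IsSimpleRing B] [FiniteDimensional k B]

/-- a nonzero module over `K ⊗ B` has `K`-dimension at least `r` -/
theorem le_finrank (r : ℕ) (hB : Module.finrank k B = r ^ 2) {K : Type v} [Field K] [Algebra k K]
    {M : Type w} [AddCommGroup M] [Module K M] [Module.Finite K M] [Nontrivial M]
    [Module k M] [IsScalarTower k K M] [SMulCommClass K k M]
    (f : B →ₐ[k] Module.End K M) : r ≤ Module.finrank K M := by
  have hcsa : Brauer.IsCSA K (K ⊗[k] B) := Brauer.IsCSA.baseChange ⟨inferInstance, inferInstance, inferInstance⟩ K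
  have := hcsa.simple; have := hcsa.finite
  let F : K ⊗[k] B →ₐ[K] Module.End K M :=
    Algebra.TensorProduct.lift (Algebra.ofId K _) f fun c b => Algebra.commutes c (f b)
  have h := LinearMap.finrank_le_finrank_of_injective (f := F.toLinearMap) F.toRingHom.injective
  rw [Module.finrank_baseChange, hB, Module.finrank_linearMap, ← sq] at h
  exact (Nat.pow_le_pow_iff_left two_ne_zero).1 h

/-- generators of a central simple algebra over a reduced algebra of right multiplications -/
theorem exists_gens (r : ℕ) (hB : Module.finrank k B = r ^ 2) {L : Type v} [CommRing L] [Algebra k L]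
    [Module.Finite k L] [IsReduced L] (hL : Module.finrank k L = r) [Module L B] [IsScalarTower k L B]
    [SMulCommClass B L B] (hfaith : ∀ l : L, l • (1 : B) = 0 → l = 0) :
    ∃ v : Fin r → B, Submodule.span L (Set.range v) = ⊤ := by
  classical
  have : IsArtinianRing L := .of_finite k L
  have : Fintype (MaximalSpectrum L) := Fintype.ofFinite _
  have : Module.Finite L B := Module.Finite.of_restrictScalars_finite k L B
  have hlin : ∀ (l : L) (b : B), l • b = b * (l • (1 : B)) := fun l b => by
    rw [← smul_eq_mul b (l • (1 : B)), smul_comm, smul_eq_mul, mul_one]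
  let eL := IsArtinianRing.equivPi L
  let Q : MaximalSpectrum L → Submodule L B := fun I => I.asIdeal • (⊤ : Submodule L B)
  have hker : ∀ a : L, (∀ I : MaximalSpectrum L, a ∈ I.asIdeal) → a = 0 := fun a ha => by
    apply eL.injective
    rw [map_zero]
    funext I
    rw [IsArtinianRing.equivPi_apply]
    exact Ideal.Quotient.eq_zero_iff_mem.2 (ha I)
  -- idempotents
  let ε : MaximalSpectrum L → L := fun I => eL.symm (Pi.single I 1)
  have hεI : ∀ I J : MaximalSpectrum L, Ideal.Quotient.mk J.asIdeal (ε I) = if J = I then 1 else 0 := fun I J => by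
    have h := congrFun (eL.apply_symm_apply (Pi.single I 1)) J
    rw [IsArtinianRing.equivPi_apply] at h
    split_ifs with hJI
    · subst hJI; rw [Pi.single_eq_same] at h; exact h
    · rw [Pi.single_eq_of_ne hJI] at h; exact h
  have hε0 : ∀ (I : MaximalSpectrum L) (a : L), a ∈ I.asIdeal → ε I * a = 0 := fun I a ha => hker _ fun J => by
    rw [← Ideal.Quotient.eq_zero_iff_mem, map_mul, hεI]
    split_ifs with h
    · subst h; rw [one_mul, Ideal.Quotient.eq_zero_iff_mem]; exact ha
    · rw [zero_mul]
  have hεsum : ∑ I, ε I = 1 := sub_eq_zero.1 <| hker _ fun J => by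
    rw [← Ideal.Quotient.eq_zero_iff_mem, map_sub, map_sum, map_one]
    simp [hεI]
  have hεQ : ∀ (I : MaximalSpectrum L) (b : B), b ∈ Q I → ε I • b = 0 := fun I b hb => by
    refine Submodule.smul_induction_on hb (fun a ha c _ => ?_) fun c d hc hd => by rw [smul_add, hc, hd, add_zero]
    rw [smul_smul, hε0 I a ha, zero_smul]
  -- CRT
  have hcrt : ∀ y : ∀ I, B ⧸ Q I, ∃ b : B, ∀ I, Submodule.Quotient.mk b = y I := fun y => by
    choose y' hy' using fun I => Submodule.Quotient.mk_surjective (Q I) (y I)
    refine ⟨∑ J, ε J • y' J, fun I => ?_⟩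
    rw [← Submodule.mkQ_apply, map_sum]
    simp only [Submodule.mkQ_apply, Q, ← Module.Quotient.mk_smul_mk, hεI]
    rw [Finset.sum_eq_single I (fun J _ hJ => by rw [if_neg hJ.symm, zero_smul]) (by simp), if_pos rfl, one_smul]
    exact hy' I
  -- every piece is nonzero
  have hnt : ∀ I, Nontrivial (B ⧸ Q I) := fun I => by
    rw [Submodule.Quotient.nontrivial_iff]
    intro h
    obtain ⟨a, ha, hz⟩ := Submodule.exists_sub_one_mem_and_smul_eq_zero_of_fg_of_le_smul I.asIdeal ⊤
      Module.Finite.fg_top h.ge
    have h0 := hfaith a (hz 1 Submodule.mem_top)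
    rw [h0, zero_sub, neg_mem_iff] at ha
    exact I.isMaximal.ne_top ((Ideal.eq_top_iff_one _).2 ha)
  have hI : ∀ I : MaximalSpectrum L, IsScalarTower k (L ⧸ I.asIdeal) (B ⧸ Q I) := fun I => ⟨fun c x y => by
    obtain ⟨x, rfl⟩ := Ideal.Quotient.mk_surjective x
    obtain ⟨y, rfl⟩ := Submodule.Quotient.mk_surjective (Q I) y
    exact congrArg Submodule.Quotient.mk (smul_assoc c x y)⟩
  have hfin : ∀ I : MaximalSpectrum L, Module.Finite (L ⧸ I.asIdeal) (B ⧸ Q I) := fun I => by
    have := hI I
    exact Module.Finite.of_restrictScalars_finite k _ _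
  let d : MaximalSpectrum L → ℕ := fun I => Module.finrank k (L ⧸ I.asIdeal)
  let n : MaximalSpectrum L → ℕ := fun I => Module.finrank (L ⧸ I.asIdeal) (B ⧸ Q I)
  have hle : ∀ I, r ≤ n I := fun I => by
    have := hI I; have := hfin I; have := hnt I
    let : Field (L ⧸ I.asIdeal) := Ideal.Quotient.field I.asIdeal
    have hstab : ∀ b : B, Q I ≤ (Q I).comap (DistribSMul.toLinearMap L B b : B →ₗ[L] B) := fun b => by
      rw [← Submodule.map_le_iff_le_comap, Submodule.map_smul'']
      exact Submodule.smul_mono le_rfl le_top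
    let g : B → Module.End (L ⧸ I.asIdeal) (B ⧸ Q I) := fun b =>
      { toFun := (Q I).mapQ (Q I) (DistribSMul.toLinearMap L B b) (hstab b)
        map_add' := fun x y => map_add _ x y
        map_smul' := fun c x => by
          obtain ⟨c, rfl⟩ := Ideal.Quotient.mk_surjective c
          exact LinearMap.map_smul _ c x }
    have hg : ∀ b y, g b (Submodule.Quotient.mk y) = Submodule.Quotient.mk (b * y) := fun _ _ => rfl
    have ext' : ∀ φ ψ : Module.End (L ⧸ I.asIdeal) (B ⧸ Q I),
        (∀ y : B, φ (Submodule.Quotient.mk y) = ψ (Submodule.Quotient.mk y)) → φ = ψ := fun φ ψ h => by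
      refine LinearMap.ext fun z => ?_
      obtain ⟨y, rfl⟩ := Submodule.Quotient.mk_surjective (Q I) z
      exact h y
    let G : B →ₐ[k] Module.End (L ⧸ I.asIdeal) (B ⧸ Q I) :=
      { toFun := g
        map_one' := ext' _ _ fun y => by rw [hg, one_mul]; rfl
        map_mul' := fun a b => ext' _ _ fun y => by rw [Module.End.mul_apply, hg, hg, hg, mul_assoc]
        map_zero' := ext' _ _ fun y => by rw [hg, zero_mul]; rfl
        map_add' := fun a b => ext' _ _ fun y => by rw [LinearMap.add_apply, hg, hg, hg, add_mul]; rfl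
        commutes' := fun c => ext' _ _ fun y => by
          rw [hg, Algebra.algebraMap_eq_smul_one, smul_mul_assoc, one_mul]; rfl }
    exact le_finrank r hB G
  -- count dimensions
  have hd : ∑ I, d I = r := by
    rw [← hL, (eL.restrictScalars k).toLinearEquiv.finrank_eq, Module.finrank_pi_fintype]
  have hdn : ∑ I, d I * n I ≤ r ^ 2 := by
    have h : ∀ I, d I * n I = Module.finrank k (B ⧸ Q I) := fun I => by
      have := hI I
      let : Field (L ⧸ I.asIdeal) := Ideal.Quotient.field I.asIdeal
      exact Module.finrank_mul_finrank k (L ⧸ I.asIdeal) (B ⧸ Q I)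
    simp only [h, ← hB, ← Module.finrank_pi_fintype]
    refine LinearMap.finrank_le_finrank_of_surjective (f := LinearMap.pi fun I => (Q I).mkQ.restrictScalars k) fun y => ?_
    obtain ⟨b, hb⟩ := hcrt y
    exact ⟨b, funext hb⟩
  have heq : ∀ I, n I = r := fun I => by
    have h1 : ∀ J ∈ (Finset.univ : Finset (MaximalSpectrum L)), d J * r ≤ d J * n J := fun J _ => Nat.mul_le_mul_left _ (hle J)
    have h2 : ∑ J, d J * r = ∑ J, d J * n J := le_antisymm (Finset.sum_le_sum h1) (by
      rw [← Finset.sum_mul, hd, ← sq]; exact hdn)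
    have h3 := (Finset.sum_eq_sum_iff_of_le h1).1 h2 I (Finset.mem_univ I)
    have hpos : 0 < d I := Module.finrank_pos
    exact (Nat.eq_of_mul_eq_mul_left hpos h3).symm
  let bas : ∀ I, Module.Basis (Fin r) (L ⧸ I.asIdeal) (B ⧸ Q I) := fun I =>
    let _ : Field (L ⧸ I.asIdeal) := Ideal.Quotient.field I.asIdeal
    have := hfin I
    Module.finBasisOfFinrankEq _ _ (heq I)
  choose v hv using fun j => hcrt fun I => bas I j
  refine ⟨v, eq_top_iff.2 fun y _ => ?_⟩
  rw [← one_smul L y, ← hεsum, Finset.sum_smul]
  refine Submodule.sum_mem _ fun I _ => ?_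
  choose c hc using fun j => Ideal.Quotient.mk_surjective ((bas I).repr (Submodule.Quotient.mk y) j)
  have hmem : y - ∑ j, c j • v j ∈ Q I := by
    rw [← Submodule.Quotient.eq, ← Submodule.mkQ_apply _ (∑ j, c j • v j), map_sum]
    simp only [Submodule.mkQ_apply]
    conv_lhs => rw [← (bas I).sum_repr (Submodule.Quotient.mk y)]
    refine Finset.sum_congr rfl fun j _ => ?_
    rw [← hc, ← hv j I]
    exact Module.Quotient.mk_smul_mk B I.asIdeal _ _
  have h := hεQ I _ hmem
  rw [smul_sub, sub_eq_zero] at h
  rw [h]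
  exact Submodule.smul_mem _ _ (Submodule.sum_mem _ fun j _ => Submodule.smul_mem _ _ (Submodule.subset_span ⟨j, rfl⟩))

end Groth.Agent.AzEtale
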