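import Groth.Agent.AzEtale.Free
import Groth.Agent.Azumaya.Fibre
import Mathlib.RingTheory.Localization.BaseChange
import Mathlib.RingTheory.Polynomial.Basic
import Mathlib.RingTheory.Localization.Integer
import Mathlib.LinearAlgebra.TensorProduct.Pi

/-!
An Azumaya algebra which is free over a commutative finite free subalgebra acting on the right is
split by it; helpers to spread such a splitting out from a prime.
-/

set_option autoImplicit false

universe u v

open TensorProduct Polynomial

namespace Groth.Agent.AzEtale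

/-- the right module structure given by an algebra map -/
@[reducible] def rightModule {R : Type u} [CommRing R] {A : Type v} [Ring A] [Algebra R A] {E : Type v} [CommRing E]
    [Algebra R E] (u : E →ₐ[R] A) : Module E A where
  smul e a := a * u e
  one_smul a := by change a * u 1 = a; rw [map_one, mul_one]
  mul_smul e f a := by change a * u (e * f) = a * u f * u e; rw [mul_comm e f, map_mul, mul_assoc]
  smul_zero e := zero_mul _
  smul_add e a b := add_mul _ _ _
  add_smul e f a := by change a * u (e + f) = a * u e + a * u f; rw [map_add, mul_add]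
  zero_smul a := by change a * u 0 = 0; rw [map_zero, mul_zero]

theorem split_of_basis {R : Type u} [CommRing R] [Nontrivial R] (A : Type u) [Ring A] [Algebra R A]
    [IsAzumaya R A] (E : Type u) [CommRing E] [Algebra R E] [Module.Free R E] [Module.Finite R E]
    [Nontrivial E] (u : E →ₐ[R] A) [Module E A] (hmod : ∀ (e : E) (a : A), e • a = a * u e) {r : ℕ}
    (hr : 0 < r) (hE : Module.finrank R E = r) (bE : Module.Basis (Fin r) E A) :
    Nonempty ((E ⊗[R] A) ≃ₐ[E] Matrix (Fin r) (Fin r) E) := by
  classical
  have : IsScalarTower R E A := ⟨fun c e a => by rw [hmod, hmod, map_smul, mul_smul_comm]⟩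
  have : SMulCommClass R E A := IsScalarTower.to_smulCommClass
  have : SMulCommClass E R A := SMulCommClass.symm R E A
  have : Module.Free E A := .of_basis bE
  have : Module.Finite E A := .of_basis bE
  have : Module.Free R A := Module.Free.trans (R := R) (S := E)
  let L : A →ₐ[R] Module.End E A :=
    { toFun := fun a =>
        { toFun := fun y => a * y
          map_add' := mul_add a
          map_smul' := fun e y => by simp only [RingHom.id_apply, hmod, mul_assoc] }
      map_one' := LinearMap.ext one_mul
      map_mul' := fun a b => LinearMap.ext (mul_assoc a b)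
      map_zero' := LinearMap.ext zero_mul
      map_add' := fun a b => LinearMap.ext (add_mul a b)
      commutes' := fun c => LinearMap.ext fun y => (Algebra.smul_def c y).symm }
  let Φ : E ⊗[R] A →ₐ[E] Module.End E A := Algebra.TensorProduct.lift (Algebra.ofId E _) L
    fun e a => Algebra.commutes e (L a)
  let j0 : Fin r := ⟨0, hr⟩
  -- `u` splits: `e` is the coordinate of `bE j0 * u e`
  let lu : A →ₗ[R] E := (bE.coord j0).restrictScalars R ∘ₗ LinearMap.mulLeft R (bE j0)
  have hlu : ∀ e, lu (u e) = e := fun e => by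
    change bE.coord j0 (bE j0 * u e) = e
    rw [← hmod, map_smul, Module.Basis.coord_apply, Module.Basis.repr_self, Finsupp.single_eq_same,
      smul_eq_mul, mul_one]
  let μ : (A ⊗[R] Aᵐᵒᵖ) ≃ₗ[R] Module.End R A :=
    LinearEquiv.ofBijective (AlgHom.mulLeftRight R A).toLinearMap IsAzumaya.bij
  let ι : Module.End E A →ₗ[R] Module.End R A :=
    { toFun := fun f => f.restrictScalars R, map_add' := fun _ _ => rfl, map_smul' := fun _ _ => rfl }
  let ψl : (A ⊗[R] Aᵐᵒᵖ) →ₗ[R] E ⊗[R] A := (TensorProduct.comm R A E).toLinearMap ∘ₗ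
    TensorProduct.map LinearMap.id (lu ∘ₗ (MulOpposite.opLinearEquiv R).symm.toLinearMap)
  let l : Module.End E A →ₗ[R] E ⊗[R] A := ψl ∘ₗ μ.symm.toLinearMap ∘ₗ ι
  have hl : ∀ z, l (Φ z) = z := fun z => by
    induction z using TensorProduct.induction_on with
    | zero => simp
    | add a b ha hb => rw [map_add, map_add, ha, hb]
    | tmul e a =>
      have h : ι (Φ (e ⊗ₜ[R] a)) = μ (a ⊗ₜ MulOpposite.op (u e)) := LinearMap.ext fun y => by
        change (algebraMap E (Module.End E A) e * L a) y = AlgHom.mulLeftRight R A (a ⊗ₜ MulOpposite.op (u e)) y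
        rw [AlgHom.mulLeftRight_apply, Module.End.mul_apply, Module.algebraMap_end_apply, hmod]
        rfl
      change ψl (μ.symm (ι (Φ (e ⊗ₜ[R] a)))) = _
      rw [h, LinearEquiv.symm_apply_apply]
      simp [ψl, hlu]
  have : Module.Free R (Module.End E A) := Module.Free.trans (R := R) (S := E)
  have : Module.Finite R (Module.End E A) := Module.Finite.trans (R := R) E _
  have hrk : Module.finrank R (Module.End E A) = Module.finrank R (E ⊗[R] A) := by
    rw [← Module.finrank_mul_finrank R E (Module.End E A), Module.finrank_linearMap, Module.finrank_tensorProduct,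
      ← Module.finrank_mul_finrank R E A, Module.finrank_eq_card_basis bE, Fintype.card_fin, hE]
  have hlinj : Function.Injective l := by
    let eq' : (Module.End E A) ≃ₗ[R] E ⊗[R] A := LinearEquiv.ofFinrankEq _ _ hrk
    have h := OrzechProperty.injective_of_surjective_endomorphism (eq'.symm.toLinearMap ∘ₗ l)
      (eq'.symm.surjective.comp (fun z => ⟨Φ z, hl z⟩))
    exact fun a b hab => h (congrArg eq'.symm hab)
  exact ⟨(AlgEquiv.ofBijective Φ ⟨Function.LeftInverse.injective hl, fun f => ⟨l f, hlinj (hl (l f))⟩⟩).trans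
    (LinearMap.toMatrixAlgEquiv bE)⟩

section BaseChange

variable {R : Type u} [CommRing R] {A : Type u} [Ring A] [Algebra R A] {E : Type u} [CommRing E]
  [Algebra R E] (u : E →ₐ[R] A) {r : ℕ} (ξ : Fin r → A)

/-- `(c_j) ↦ ∑ ξ_j u(c_j)` -/
noncomputable def comb : (Fin r → E) →ₗ[R] A :=
  ∑ j, LinearMap.mulLeft R (ξ j) ∘ₗ u.toLinearMap ∘ₗ LinearMap.proj j

theorem comb_single (j : Fin r) (e : E) : comb u ξ (Pi.single j e) = ξ j * u e := by
  classical
  rw [comb, LinearMap.sum_apply, Finset.sum_eq_single j (fun i _ hi => by simp [Pi.single_eq_of_ne hi]) (by simp)]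
  simp

/-- base change of `comb` is the combination of the base-changed elements -/
theorem lTensor_comb (S : Type u) [CommRing S] [Algebra R S] (c : Fin r → S ⊗[R] E) :
    (comb u ξ).lTensor S ((TensorProduct.piRight R S S (fun _ : Fin r => E)).symm c) =
      ∑ j, ((1 : S) ⊗ₜ[R] ξ j) * Algebra.TensorProduct.map (AlgHom.id S S) u (c j) := by
  classical
  conv_lhs => rw [← Finset.univ_sum_single c]
  rw [map_sum, map_sum]
  refine Finset.sum_congr rfl fun j _ => ?_
  induction c j using TensorProduct.induction_on with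
  | zero => simp
  | tmul s e =>
    rw [TensorProduct.piRight_symm_single, LinearMap.lTensor_tmul, comb_single]
    simp
  | add a b ha hb => rw [Pi.single_add, map_add, map_add, map_add, mul_add, ha, hb]

end BaseChange

/-- an element of a base change to a localisation, times a unit, comes from the algebra -/
theorem exists_smul_eq_one_tmul {R : Type u} [CommRing R] (M : Submonoid R) (S : Type u) [CommRing S]
    [Algebra R S] [IsLocalization M S] {A : Type u} [AddCommGroup A] [Module R A] (z : S ⊗[R] A) :
    ∃ s ∈ M, ∃ a : A, algebraMap R S s • z = (1 : S) ⊗ₜ[R] a := by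
  obtain ⟨⟨a, s⟩, h⟩ := IsLocalizedModule.surj M (TensorProduct.mk R S A 1) z
  exact ⟨s, s.2, a, by rw [algebraMap_smul]; exact h⟩

/-- a polynomial relation over a localisation gives one over the ring after rescaling -/
theorem exists_relation {R : Type u} [CommRing R] (M : Submonoid R) (S : Type u) [CommRing S]
    [Algebra R S] [IsLocalization M S] {A : Type u} [Ring A] [Algebra R A] (r : ℕ) (hr : 0 < r) (a : A) (c : Fin r → S)
    (h : ((1 : S) ⊗ₜ[R] a) ^ r = ∑ i, c i • ((1 : S) ⊗ₜ[R] a) ^ (i : ℕ)) :
    ∃ s ∈ M, ∃ b : Fin r → R, (s • a) ^ r = ∑ i, b i • (s • a) ^ (i : ℕ) := by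
  classical
  obtain ⟨t, ht⟩ := IsLocalization.exist_integer_multiples_of_finite M c
  choose b hb using ht
  let x : A := (t : R) • a ^ r - ∑ i, b i • a ^ (i : ℕ)
  have hx : TensorProduct.mk R S A 1 x = TensorProduct.mk R S A 1 0 := by
    rw [map_zero, map_sub, map_smul, map_sum, sub_eq_zero]
    simp only [TensorProduct.mk_apply, map_smul]
    simp only [Algebra.TensorProduct.tmul_pow, one_pow] at h
    rw [h, Finset.smul_sum]
    refine Finset.sum_congr rfl fun i _ => ?_
    rw [← algebraMap_smul S (t : R) (c i • ((1 : S) ⊗ₜ[R] (a ^ (i : ℕ)))), smul_smul,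
      ← algebraMap_smul S (b i), hb i, ← Algebra.smul_def]
  obtain ⟨w, hw⟩ := (IsLocalizedModule.eq_iff_exists M (TensorProduct.mk R S A 1)).1 hx
  rw [smul_zero] at hw
  refine ⟨w * t, M.mul_mem w.2 t.2, fun i => b i * (w : R) * ((w : R) * t) ^ (r - 1 - (i : ℕ)), ?_⟩
  have hw' : ((w : R) * t) • a ^ r = ∑ i, ((w : R) * b i) • a ^ (i : ℕ) := by
    have hw'' : (w : R) • x = 0 := hw
    rw [smul_sub, sub_eq_zero, smul_smul, Finset.smul_sum] at hw''
    simpa [smul_smul] using hw''
  obtain ⟨n, rfl⟩ : ∃ n, r = n + 1 := ⟨r - 1, by omega⟩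
  rw [_root_.smul_pow, pow_succ, ← smul_smul, hw', Finset.smul_sum]
  refine Finset.sum_congr rfl fun i _ => ?_
  rw [_root_.smul_pow, smul_smul, smul_smul, Nat.add_sub_cancel]
  congr 1
  have : ((w : R) * t) ^ n = ((w : R) * t) ^ (n - i) * ((w : R) * t) ^ (i : ℕ) := by
    rw [← pow_add, Nat.sub_add_cancel (Nat.lt_succ_iff.1 i.2)]
  rw [this]; ring

/-- coprimality spreads out from a localisation -/
theorem exists_bezout {R : Type u} [CommRing R] (M : Submonoid R) (S : Type u) [CommRing S]
    [Algebra R S] [IsLocalization M S] (P Q : R[X])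
    (h : IsCoprime (P.map (algebraMap R S)) (Q.map (algebraMap R S))) :
    ∃ d ∈ M, ∃ a b : R[X], a * P + b * Q = C d := by
  obtain ⟨a, b, hab⟩ := h
  let := (Polynomial.mapRingHom (algebraMap R S)).toAlgebra
  have : IsLocalization (M.map (C : R →+* R[X]).toMonoidHom) S[X] := Polynomial.isLocalization M S
  obtain ⟨⟨a0, _, t1, ht1, rfl⟩, ha⟩ := IsLocalization.surj (M.map (C : R →+* R[X]).toMonoidHom) a
  obtain ⟨⟨b0, _, t2, ht2, rfl⟩, hb⟩ := IsLocalization.surj (M.map (C : R →+* R[X]).toMonoidHom) b
  change _ * Polynomial.map (algebraMap R S) (C t1) = Polynomial.map (algebraMap R S) a0 at ha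
  change _ * Polynomial.map (algebraMap R S) (C t2) = Polynomial.map (algebraMap R S) b0 at hb
  rw [map_C] at ha hb
  have he : (a0 * C t2 * P + b0 * C t1 * Q).map (algebraMap R S) = (C (t1 * t2)).map (algebraMap R S) := by
    simp only [Polynomial.map_add, Polynomial.map_mul, map_C, ← ha, ← hb, map_mul]
    linear_combination (C (algebraMap R S t1) * C (algebraMap R S t2)) * hab
  obtain ⟨⟨_, w, hw, rfl⟩, hw'⟩ := (IsLocalization.eq_iff_exists (M.map (C : R →+* R[X]).toMonoidHom) S[X]).1 he
  change C w * _ = C w * _ at hw'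
  refine ⟨w * (t1 * t2), M.mul_mem hw (M.mul_mem ht1 ht2), C w * a0 * C t2, C w * b0 * C t1, ?_⟩
  rw [map_mul C w, ← hw']
  ring

end Groth.Agent.AzEtale
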