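import Groth.Agent.AzEtale.Split
import Groth.Agent.S5711
import Groth.Agent.S5713
import Groth.Agent.Hensel.FiniteEtale

/-!
Splitting an Azumaya algebra by a finite etale algebra near a prime.
-/

set_option autoImplicit false

universe u

open TensorProduct Polynomial

namespace Groth.Agent.AzEtale

/-- the algebra generated by `x` is separable of dimension `r` -/
def IsSeparable' (k : Type u) [Field k] {B : Type u} [Ring B] [Algebra k B] (x : B) (r : ℕ) : Prop :=
  Algebra.IsSeparable k (Algebra.adjoin k ({x} : Set B)) ∧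
    Module.finrank k (Algebra.adjoin k ({x} : Set B)) = r

theorem IsSeparable'.smul {k : Type u} [Field k] {B : Type u} [Ring B] [Algebra k B] {x : B} {r : ℕ}
    (h : IsSeparable' k x r) {c : k} (hc : c ≠ 0) : IsSeparable' k (c • x) r := by
  have he : Algebra.adjoin k ({c • x} : Set B) = Algebra.adjoin k ({x} : Set B) := by
    apply le_antisymm <;> rw [Algebra.adjoin_le_iff, Set.singleton_subset_iff]
    · exact Subalgebra.smul_mem _ (Algebra.self_mem_adjoin_singleton k x) c
    · have := Subalgebra.smul_mem _ (Algebra.self_mem_adjoin_singleton k (c • x)) c⁻¹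
      rwa [inv_smul_smul₀ hc] at this
  rw [IsSeparable', he]
  exact h

theorem map_ne_zero_iff_isUnit {R : Type u} [CommRing R] [IsLocalRing R] {x : R} :
    algebraMap R (IsLocalRing.ResidueField R) x ≠ 0 ↔ IsUnit x :=
  IsLocalRing.residue_ne_zero_iff_isUnit x


variable {R : Type u} [CommRing R] {A : Type u} [Ring A] [Algebra R A]

/-- `R[X]/(P) → A`, `X ↦ a` -/
noncomputable def evalRoot {P : R[X]} {a : A} (h : aeval a P = 0) : AdjoinRoot P →ₐ[R] A :=
  Ideal.Quotient.liftₐ (Ideal.span {P}) (aeval a) (fun q hq => by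
    obtain ⟨w, rfl⟩ := Ideal.mem_span_singleton'.1 hq
    rw [map_mul, h, mul_zero])

theorem evalRoot_basis {P : R[X]} {a : A} (h : aeval a P = 0) (hPm : P.Monic) (i : Fin (AdjoinRoot.powerBasis' hPm).dim) :
    evalRoot h ((AdjoinRoot.powerBasis' hPm).basis i) = a ^ (i : ℕ) := by
  rw [PowerBasis.basis_eq_pow, map_pow]
  congr 1
  exact aeval_X a

/-- a monic polynomial with a root reducing to a regular element of the fibre at `p` -/
theorem exists_root [IsAzumaya R A] (p : Ideal R) [p.IsPrime] (Rp : Type u) [CommRing Rp] [Algebra R Rp]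
    [IsLocalization p.primeCompl Rp] [IsLocalRing Rp] [IsAzumaya Rp (Rp ⊗[R] A)] [Module.Free Rp (Rp ⊗[R] A)] :
    ∃ (r : ℕ) (P : R[X]) (a' : A), 0 < r ∧ Module.finrank Rp (Rp ⊗[R] A) = r ^ 2 ∧ P.Monic ∧ P.natDegree = r ∧
      aeval a' P = 0 ∧ IsCoprime (P.map (algebraMap R Rp)) (derivative (P.map (algebraMap R Rp))) ∧
      (minpoly (IsLocalRing.ResidueField Rp) ((1 : IsLocalRing.ResidueField Rp) ⊗ₜ[Rp] ((1 : Rp) ⊗ₜ[R] a'))).natDegree = r ∧
      ∃ d ∈ p.primeCompl, ∃ qa qb : R[X], qa * P + qb * derivative P = C d := by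
  classical
  let M := p.primeCompl
  obtain ⟨hcen, hsim⟩ := (Azumaya.isAzumaya_iff_closed_fibre (R := Rp) (Rp ⊗[R] A)).1 inferInstance
  have := hcen; have := hsim
  let k := IsLocalRing.ResidueField Rp
  obtain ⟨d0, hd0, -, m0, D, _, _, hm0, hD, hdim, ⟨e0⟩⟩ :=
    Brauer.exists_index (k := k) (T := k ⊗[Rp] (Rp ⊗[R] A)) ⟨inferInstance, inferInstance, inferInstance⟩
  have := hD.finite
  let r := m0 * d0
  have hdimk : Module.finrank k (k ⊗[Rp] (Rp ⊗[R] A)) = r ^ 2 := by
    rw [e0.toLinearEquiv.finrank_eq, Module.finrank_matrix, Fintype.card_fin, hdim]; ring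
  have hrA : Module.finrank Rp (Rp ⊗[R] A) = r ^ 2 :=
    (Module.finrank_baseChange (R := k)).symm.trans hdimk
  have hr : 0 < r := Nat.pos_of_ne_zero fun h => by
    have := Module.finrank_pos (R := k) (M := k ⊗[Rp] (Rp ⊗[R] A))
    rw [hdimk, h] at this; simp at this
  -- a regular element coming from `A`
  obtain ⟨x, hxs, hxd⟩ := exists_regular (k := k) (k ⊗[Rp] (Rp ⊗[R] A)) r hdimk
  obtain ⟨y, hy⟩ := TensorProduct.mk_surjective Rp (Rp ⊗[R] A) k IsLocalRing.residue_surjective x
  obtain ⟨s, hs, a, ha⟩ := exists_smul_eq_one_tmul M Rp y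
  have hsx : IsSeparable' k x r := ⟨isSeparable_adjoin _ (minpoly.monic (IsIntegral.of_finite k x)) hxs (minpoly.aeval _ _),
    (finrank_adjoin x).trans hxd⟩
  have hfib : ∀ t ∈ M, IsSeparable' k ((1 : k) ⊗ₜ[Rp] ((1 : Rp) ⊗ₜ[R] (t • a))) r := fun t ht => by
    have h : (1 : k) ⊗ₜ[Rp] ((1 : Rp) ⊗ₜ[R] (t • a)) = algebraMap Rp k (algebraMap R Rp (t * s)) • x := by
      rw [← hy, map_mul, map_mul, mul_smul, TensorProduct.mk_apply, algebraMap_smul k, algebraMap_smul k, ← TensorProduct.tmul_smul, ← TensorProduct.tmul_smul, ha,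
        TensorProduct.tmul_smul, algebraMap_smul]
    rw [h]
    refine hsx.smul ?_
    rw [map_ne_zero_iff_isUnit]
    exact IsLocalization.map_units Rp (⟨t * s, M.mul_mem ht hs⟩ : M)
  obtain ⟨h5sep, h5rk⟩ := hfib 1 M.one_mem
  rw [one_smul] at h5sep h5rk
  obtain ⟨-, hmem⟩ := S5713.result Rp (Rp ⊗[R] A) r hrA ((1 : Rp) ⊗ₜ[R] a) h5sep h5rk
  obtain ⟨c, hc⟩ := (Submodule.mem_span_range_iff_exists_fun Rp).1 hmem
  obtain ⟨t, ht, b, hb⟩ := exists_relation M Rp r hr a c hc.symm
  let a' : A := t • a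
  let P : R[X] := X ^ r - ∑ i : Fin r, C (b i) * X ^ (i : ℕ)
  have hPm : P.Monic := monic_X_pow_sub (degree_sum_fin_lt b)
  have hPd : P.natDegree = r := by
    have : Nontrivial R := (algebraMap R Rp).domain_nontrivial
    apply natDegree_eq_of_degree_eq_some
    rw [degree_sub_eq_left_of_degree_lt (by rw [degree_X_pow]; exact degree_sum_fin_lt b), degree_X_pow]
  have hPa : aeval a' P = 0 := by
    simp only [P, map_sub, map_pow, aeval_X, map_sum, map_mul, aeval_C, ← Algebra.smul_def, a', hb, sub_self]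
  let x' := (1 : k) ⊗ₜ[Rp] ((1 : Rp) ⊗ₜ[R] a')
  obtain ⟨hx'sep, hx'rk⟩ := hfib t ht
  have hint : IsIntegral k x' := IsIntegral.of_finite k _
  have hx's : (minpoly k x').Separable := by
    have h := Algebra.IsSeparable.isSeparable k (⟨x', Algebra.self_mem_adjoin_singleton k x'⟩ : Algebra.adjoin k ({x'} : Set _))
    rw [IsSeparable, ← minpoly.algHom_eq (Algebra.adjoin k ({x'} : Set _)).val Subtype.val_injective] at h
    exact h
  have hx'd : (minpoly k x').natDegree = r := (finrank_adjoin x').symm.trans hx'rk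
  let Pp := P.map (algebraMap R Rp)
  have hPpm : Pp.Monic := hPm.map _
  have hPk : Pp.map (algebraMap Rp k) = minpoly k x' := by
    refine eq_of_monic_of_dvd_of_natDegree_le (minpoly.monic hint) (hPpm.map _) (minpoly.dvd k _ ?_) ?_
    · rw [aeval_map_algebraMap]
      change aeval (Algebra.TensorProduct.includeRight (R := Rp) (A := k) ((1 : Rp) ⊗ₜ[R] a')) Pp = 0
      rw [aeval_algHom_apply, aeval_map_algebraMap]
      change Algebra.TensorProduct.includeRight (R := Rp) (A := k) (aeval (Algebra.TensorProduct.includeRight (R := R) (A := Rp) a') P) = 0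
      rw [aeval_algHom_apply, hPa, map_zero, map_zero]
    · rw [hPpm.natDegree_map, hPm.natDegree_map, hPd, hx'd]
  have hcop : IsCoprime Pp (derivative Pp) := by
    refine Hensel.isCoprime_of_map (I := IsLocalRing.maximalIdeal Rp) (IsLocalRing.maximalIdeal_le_jacobson ⊥) hPpm ?_
    rw [← derivative_map]
    change (Polynomial.map (algebraMap Rp k) Pp).Separable
    rw [hPk]; exact hx's
  obtain ⟨d, hd, qa, qb, hq⟩ := exists_bezout M Rp P (derivative P) (by rw [← derivative_map]; exact hcop)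
  exact ⟨r, P, a', hr, hrA, hPm, hPd, hPa, hcop, hx'd, d, hd, qa, qb, hq⟩

/-- near `p` the algebra is free over `R[X]/(P)` -/
theorem exists_free [IsAzumaya R A] (p : Ideal R) [p.IsPrime] (Rp : Type u) [CommRing Rp] [Algebra R Rp]
    [IsLocalization p.primeCompl Rp] [IsLocalRing Rp] [IsAzumaya Rp (Rp ⊗[R] A)] [Module.Free Rp (Rp ⊗[R] A)]
    (r : ℕ) (hr : 0 < r) (hrA : Module.finrank Rp (Rp ⊗[R] A) = r ^ 2) (P : R[X]) (a' : A) (hPm : P.Monic)
    (hPd : P.natDegree = r) (hPa : aeval a' P = 0)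
    (hcop : IsCoprime (P.map (algebraMap R Rp)) (derivative (P.map (algebraMap R Rp))))
    (hx'd : (minpoly (IsLocalRing.ResidueField Rp) ((1 : IsLocalRing.ResidueField Rp) ⊗ₜ[Rp] ((1 : Rp) ⊗ₜ[R] a'))).natDegree = r) :
    ∃ (ξ : Fin r → A), ∃ h ∈ p.primeCompl, ∀ t, h ∣ t →
      Function.Bijective (LocalizedModule.map (.powers t) (comb (evalRoot hPa) ξ)) := by
  classical
  let M := p.primeCompl
  let k := IsLocalRing.ResidueField Rp
  let x' := (1 : k) ⊗ₜ[Rp] ((1 : Rp) ⊗ₜ[R] a')
  let E0 := AdjoinRoot P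
  have : Module.Finite R E0 := hPm.finite_adjoinRoot
  have : Module.Free R E0 := hPm.free_adjoinRoot
  let pb := AdjoinRoot.powerBasis' hPm
  let u0 : E0 →ₐ[R] A := evalRoot hPa
  have hu0 : ∀ i, u0 (pb.basis i) = a' ^ (i : ℕ) := evalRoot_basis hPa hPm
  have : Algebra.Etale Rp (AdjoinRoot (P.map (algebraMap R Rp))) := Hensel.etale_adjoinRoot (hPm.map _) hcop
  have : Algebra.Etale Rp (Rp ⊗[R] E0) := Algebra.Etale.of_equiv (Hensel.adjoinRootBaseChange Rp P).symm
  let up : Rp ⊗[R] E0 →ₐ[Rp] Rp ⊗[R] A := Algebra.TensorProduct.map (AlgHom.id Rp Rp) u0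
  let B1 := Algebra.TensorProduct.basis Rp pb.basis
  have hEp : Module.finrank Rp (Rp ⊗[R] E0) = r := by
    rw [Module.finrank_eq_card_basis B1, Fintype.card_fin]; exact hPd
  have hup : Function.Injective (up.toLinearMap.lTensor k) := by
    let B := Algebra.TensorProduct.basis k B1
    rw [← LinearMap.baseChange_eq_ltensor, ← LinearMap.ker_eq_bot, eq_bot_iff]
    intro z hz
    rw [LinearMap.mem_ker, ← B.sum_repr z, map_sum] at hz
    simp only [map_smul, B, B1, Algebra.TensorProduct.basis_apply, LinearMap.baseChange_tmul, AlgHom.toLinearMap_apply,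
      up, Algebra.TensorProduct.map_tmul, AlgHom.id_apply, hu0] at hz
    have hdim' : pb.dim = (minpoly k x').natDegree := hPd.trans hx'd.symm
    have h0 := (Fintype.linearIndependent_iff.1 ((linearIndependent_pow (K := k) x').comp (Fin.cast hdim') (Fin.cast_injective hdim'))) (fun i => B.repr z i) (by
      rw [← hz]
      refine Finset.sum_congr rfl fun i _ => ?_
      simp [B, B1, x', Algebra.TensorProduct.tmul_pow])
    rw [Submodule.mem_bot, ← B.sum_repr z]
    exact Finset.sum_eq_zero fun i _ => by rw [h0 i, zero_smul]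
  let : Module (Rp ⊗[R] E0) (Rp ⊗[R] A) := rightModule up
  have : IsScalarTower Rp (Rp ⊗[R] E0) (Rp ⊗[R] A) := ⟨fun c e z => by
    change z * up (c • e) = c • (z * up e)
    rw [map_smul, mul_smul_comm]⟩
  obtain ⟨hfree, hfr, -⟩ := S5711.result Rp (Rp ⊗[R] A) r hrA (Rp ⊗[R] E0) hEp up hup (fun _ _ => rfl)
  have := hfree
  have : Module.Finite (Rp ⊗[R] E0) (Rp ⊗[R] A) := Module.Finite.of_restrictScalars_finite Rp _ _
  have : Nontrivial (Rp ⊗[R] E0) := Module.nontrivial_of_finrank_pos (R := Rp) (by rw [hEp]; exact hr)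
  let bp : Module.Basis (Fin r) (Rp ⊗[R] E0) (Rp ⊗[R] A) := Module.finBasisOfFinrankEq _ _ hfr
  choose sj hsj ξ hξ using fun j => exists_smul_eq_one_tmul M Rp (bp j)
  let bp' := bp.isUnitSMul (w := fun j => algebraMap Rp (Rp ⊗[R] E0) (algebraMap R Rp (sj j)))
    fun j => (IsLocalization.map_units Rp (⟨sj j, hsj j⟩ : M)).map _
  have hbp' : ∀ j, bp' j = (1 : Rp) ⊗ₜ[R] ξ j := fun j => by
    rw [Module.Basis.isUnitSMul_apply, algebraMap_smul, hξ j]
  let g0 := comb u0 ξ
  let π := TensorProduct.piRight R Rp Rp (fun _ : Fin r => E0)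
  have hg0 : Function.Bijective (g0.lTensor Rp) := by
    have h : ∀ z, g0.lTensor Rp z = bp'.equivFun.symm (π z) := fun z => by
      conv_lhs => rw [← π.symm_apply_apply z]
      rw [lTensor_comb, Module.Basis.equivFun_symm_apply]
      exact Finset.sum_congr rfl fun j _ => by rw [hbp']; rfl
    rw [show ⇑(g0.lTensor Rp) = bp'.equivFun.symm ∘ π from funext h]
    exact bp'.equivFun.symm.bijective.comp π.bijective
  have hmap : IsLocalizedModule.map M (TensorProduct.mk R Rp (Fin r → E0) 1) (TensorProduct.mk R Rp A 1) g0 = g0.lTensor Rp := by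
    refine IsLocalizedModule.linearMap_ext M (TensorProduct.mk R Rp (Fin r → E0) 1) (TensorProduct.mk R Rp A 1) ?_
    refine LinearMap.ext fun z => ?_
    exact IsLocalizedModule.map_apply M (TensorProduct.mk R Rp (Fin r → E0) 1) (TensorProduct.mk R Rp A 1) g0 z
  have : Module.FinitePresentation R A := Module.finitePresentation_of_projective R A
  obtain ⟨h, hh, H⟩ := exists_bijective_map_powers M (TensorProduct.mk R Rp (Fin r → E0) 1)
    (TensorProduct.mk R Rp A 1) g0 (by rw [hmap]; exact hg0)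
  exact ⟨ξ, h, hh, H⟩

/-- splitting over a ring where the algebra is free over `R[X]/(P)` -/
theorem split_over [IsAzumaya R A] (R' : Type u) [CommRing R'] [Algebra R R'] [Nontrivial R'] (r : ℕ) (hr : 0 < r)
    (P : R[X]) (a' : A) (hPm : P.Monic) (hPd : P.natDegree = r) (hPa : aeval a' P = 0)
    (hcop' : IsCoprime (P.map (algebraMap R R')) (derivative (P.map (algebraMap R R')))) (ξ : Fin r → A)
    (hg' : Function.Bijective ((comb (evalRoot hPa) ξ).lTensor R')) :
    Algebra.Etale R' (R' ⊗[R] AdjoinRoot P) ∧ Module.Finite R' (R' ⊗[R] AdjoinRoot P) ∧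
      Module.FaithfullyFlat R' (R' ⊗[R] AdjoinRoot P) ∧
      Nonempty (((R' ⊗[R] AdjoinRoot P) ⊗[R] A) ≃ₐ[R' ⊗[R] AdjoinRoot P] Matrix (Fin r) (Fin r) (R' ⊗[R] AdjoinRoot P)) := by
  classical
  let P' := P.map (algebraMap R R')
  let E0 := AdjoinRoot P
  have : Module.Finite R E0 := hPm.finite_adjoinRoot
  have : Module.Free R E0 := hPm.free_adjoinRoot
  let pb := AdjoinRoot.powerBasis' hPm
  let u0 : E0 →ₐ[R] A := evalRoot hPa
  let g0 := comb u0 ξ
  have : Algebra.Etale R' (AdjoinRoot P') := Hensel.etale_adjoinRoot (hPm.map _) hcop'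
  have hetale : Algebra.Etale R' (R' ⊗[R] E0) := Algebra.Etale.of_equiv (Hensel.adjoinRootBaseChange R' P).symm
  have hE' : Module.finrank R' (R' ⊗[R] E0) = r := by
    rw [Module.finrank_eq_card_basis (Algebra.TensorProduct.basis R' pb.basis), Fintype.card_fin]; exact hPd
  have : Nontrivial (R' ⊗[R] E0) := Module.nontrivial_of_finrank_pos (R := R') (by rw [hE']; exact hr)
  have : IsAzumaya R' (R' ⊗[R] A) := Azumaya.isAzumaya_baseChange (R := R) R' A
  let u' : R' ⊗[R] E0 →ₐ[R'] R' ⊗[R] A := Algebra.TensorProduct.map (AlgHom.id R' R') u0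
  let : Module (R' ⊗[R] E0) (R' ⊗[R] A) := rightModule u'
  let gl := Fintype.linearCombination (R' ⊗[R] E0) (fun j => (1 : R') ⊗ₜ[R] ξ j)
  have hgl : Function.Bijective gl := by
    rw [show ⇑gl = g0.lTensor R' ∘ (TensorProduct.piRight R R' R' (fun _ : Fin r => E0)).symm from funext fun c' => by
      rw [Function.comp_apply, lTensor_comb, Fintype.linearCombination_apply]; rfl]
    exact hg'.comp (LinearEquiv.bijective _)
  obtain ⟨e⟩ := split_of_basis (R' ⊗[R] A) (R' ⊗[R] E0) u' (fun _ _ => rfl) hr hE'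
    (Module.Basis.ofEquivFun (LinearEquiv.ofBijective gl hgl).symm)
  exact ⟨hetale, inferInstance, inferInstance,
    ⟨(AlgEquiv.ofLinearEquiv (TensorProduct.AlgebraTensorModule.cancelBaseChange R R' (R' ⊗[R] E0) (R' ⊗[R] E0) A).symm
      (by simp [Algebra.TensorProduct.one_def])
      (LinearMap.map_mul_of_map_mul_tmul fun _ _ _ _ => by simp)).trans e⟩⟩

end Groth.Agent.AzEtale
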